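import Cfsg.Agent.Lib.AEightThreeClasses.Core
import Cfsg.Agent.Lib.CoprimeAction.Abelian
import Cfsg.Agent.S0205
import Cfsg.Agent.S0217

/-!
A strongly closed elementary abelian subgroup `A` of order at least eight with controlled
involution centralisers: if there are two classes of involutions then `G = O(G) N(A)`.
The odd cores of the centralisers form a solvable signalizer functor on `A`, and the normaliser of
its closure, then the product of the closure with `N(A)`, contain every involution centraliser.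
-/

set_option autoImplicit false

namespace CfsgLib.AEightThreeClasses

open Subgroup Cfsg

universe u

theorem exists_oddCore_mul_normalizer {G : Type u} [Group G] [Finite G] (T : Sylow 2 G)
    {A : Subgroup G} (hA : IsElementaryAbelian 2 A) (hA8 : 8 ≤ Nat.card A)
    (hsc : IsStronglyClosed A (T : Subgroup G)) (D0 : Subgroup G) (hD0 : Odd (Nat.card D0))
    (hD0N : normalizer (A : Set G) ≤ normalizer (D0 : Set G))
    (hD0C : D0 ≤ centralizer (A : Set G))
    (hCA : ∀ x ∈ centralizer (A : Set G), ∃ e ∈ A, ∃ o ∈ D0, x = e * o)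
    (hloc : ∀ a ∈ A, a ≠ 1 → ∀ g ∈ centralizer ({a} : Set G),
      ∃ o ∈ Oc a, ∃ n ∈ normalizer (A : Set G), g = o * n)
    (hout : ∀ t ∈ (T : Subgroup G), t ∉ A → orderOf t = 2 →
      (∀ g ∈ centralizer ({t} : Set G), ∃ o ∈ Oc t, ∃ n ∈ normalizer (A : Set G), g = o * n) ∧
      ¬ IsCyclic ↥(A ⊓ centralizer ({t} : Set G)))
    (hcl : ∃ s t : G, orderOf s = 2 ∧ orderOf t = 2 ∧ ¬ IsConj s t) :
    ∀ g : G, ∃ w ∈ oddCore G, ∃ n ∈ normalizer (A : Set G), g = w * n := by
  haveI : Fact (Nat.Prime 2) := ⟨Nat.prime_two⟩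
  have hcomm : ∀ a ∈ A, ∀ b ∈ A, a * b = b * a := fun a ha b hb =>
    congrArg Subtype.val (hA.1.is_comm.comm (⟨a, ha⟩ : A) ⟨b, hb⟩)
  have hsq : ∀ a ∈ A, a * a = 1 := fun a ha => by rw [← pow_two]; exact hA.2 a ha
  have hAC : ∀ a ∈ A, A ≤ centralizer ({a} : Set G) := fun a ha b hb =>
    mem_cent.2 (hcomm b hb a ha)
  have hTN : (T : Subgroup G) ≤ normalizer (A : Set G) := fun t ht =>
    CfsgLib.CoprimeAction.mem_normalizer_of_conj_mem fun a ha =>
      hsc.2 a ha t (mul_mem (mul_mem ht (hsc.1 ha)) (inv_mem ht))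
  have hinj : ∀ b ∈ A, Oc b ⊓ A = ⊥ := fun b _ => eq_bot_iff.2 fun x hx =>
    mem_bot.2 (eq_one_of_mem_odd (odd_card_Oc b) (hsq x hx.2) hx.1)
  -- the odd subgroup `D0` lies in every core
  have hD0le : ∀ b ∈ A, b ≠ 1 → D0 ≤ Oc b := by
    intro b hb hb1
    have hD0b : D0 ≤ centralizer ({b} : Set G) := fun d hd =>
      mem_cent.2 ((mem_centralizer_iff.1 (hD0C hd) b hb).symm)
    have h1 : Oc b ⊔ D0 ≤ Oc b := by
      refine le_Oc (sup_le (Oc_le b) hD0b) ?_ ?_
      · intro g hg
        obtain ⟨o, ho, n, hn, rfl⟩ := hloc b hb hb1 g hg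
        refine mul_mem (le_normalizer (mem_sup_left ho)) ?_
        have hnb : n ∈ centralizer ({b} : Set G) := by
          have := mul_mem (inv_mem (Oc_le b ho)) hg
          rwa [inv_mul_cancel_left] at this
        refine CfsgLib.CoprimeAction.mem_normalizer_of_conj_mem fun x hx => ?_
        have hle : Oc b ⊔ D0 ≤ (Oc b ⊔ D0).comap (MulAut.conj n).toMonoidHom :=
          sup_le (fun y hy => mem_sup_left
              ((mem_normalizer_iff.1 (centralizer_le_normalizer_Oc b hnb) y).1 hy))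
            (fun y hy => mem_sup_right ((mem_normalizer_iff.1 (hD0N hn) y).1 hy))
        exact hle hx
      · have hD0' : D0 ≤ normalizer (Oc b : Set G) := hD0b.trans (centralizer_le_normalizer_Oc b)
        have := CfsgLib.Cores.card_sup_dvd (D0.subgroupOf (normalizer (Oc b : Set G)))
          ((Oc b).subgroupOf (normalizer (Oc b : Set G)))
        rw [← subgroupOf_sup hD0' le_normalizer,
          Nat.card_congr (subgroupOfEquivOfLe (sup_le hD0' le_normalizer)).toEquiv,
          Nat.card_congr (subgroupOfEquivOfLe hD0').toEquiv,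
          Nat.card_congr (subgroupOfEquivOfLe (le_normalizer (H := Oc b))).toEquiv,
          sup_comm] at this
        exact (hD0.mul (odd_card_Oc b)).of_dvd_nat this
    exact le_sup_right.trans h1
  -- balance
  have hbal : ∀ a ∈ A, a ≠ 1 → ∀ b ∈ A, b ≠ 1 → Oc a ⊓ centralizer ({b} : Set G) ≤ Oc b := by
    intro a ha _ b hb hb1 d hd
    obtain ⟨hda, hdb⟩ := hd
    obtain ⟨o, ho, n, hn, rfl⟩ := hloc b hb hb1 _ hdb
    have hnb : n ∈ centralizer ({b} : Set G) := by
      have := mul_mem (inv_mem (Oc_le b ho)) hdb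
      rwa [inv_mul_cancel_left] at this
    have hdo : Odd (orderOf (o * n)) := odd_orderOf_of_mem (odd_card_Oc a) hda
    have hNb := centralizer_le_normalizer_Oc (G := G) b
    have hnA : n ∈ centralizer (A : Set G) := by
      refine mem_centralizer_iff.2 fun e he => ?_
      set f := e * (n * e⁻¹ * n⁻¹) with hf
      have hf' : f ∈ A := mul_mem he ((mem_normalizer_iff.1 hn _).1 (inv_mem he))
      set d' := e * (o * n) * e⁻¹ * (o * n)⁻¹ with hd'
      have hd'a : d' ∈ Oc a := mul_mem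
        ((mem_normalizer_iff.1 (centralizer_le_normalizer_Oc a (hAC a ha he)) _).1 hda)
        (inv_mem hda)
      have hd'b : d' ∈ centralizer ({b} : Set G) :=
        mul_mem (mul_mem (mul_mem (hAC b hb he) hdb) (inv_mem (hAC b hb he))) (inv_mem hdb)
      have hrel : f * d'⁻¹ ∈ Oc b := by
        have h1 : d' = (e * o * e⁻¹) * f * o⁻¹ := by rw [hd', hf]; group
        have h2 : f * d'⁻¹ = (f * o * f⁻¹) * (e * o * e⁻¹)⁻¹ := by rw [h1]; group
        rw [h2]
        exact mul_mem ((mem_normalizer_iff.1 (hNb (hAC b hb hf')) _).1 ho)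
          (inv_mem ((mem_normalizer_iff.1 (hNb (hAC b hb he)) _).1 ho))
      have hf1 : f = 1 := eq_one_of_div_mem_sub (Oc_le b) hNb (odd_card_Oc b) (hAC b hb hf')
        hd'b (hsq f hf') (odd_orderOf_of_mem (odd_card_Oc a) hd'a) hrel
      rw [hf, mul_eq_one_iff_eq_inv] at hf1
      calc e * n = (n * e⁻¹ * n⁻¹)⁻¹ * n := by rw [← hf1]
        _ = n * e := by group
    obtain ⟨e, he, o', ho', rfl⟩ := hCA n hnA
    have ho'b : o' ∈ Oc b := hD0le b hb hb1 ho'
    have hrel : e * (o * (e * o'))⁻¹ ∈ Oc b := by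
      have h : e * (o * (e * o'))⁻¹ = (e * o'⁻¹ * e⁻¹) * o⁻¹ := by group
      rw [h]
      exact mul_mem ((mem_normalizer_iff.1 (hNb (hAC b hb he)) _).1 (inv_mem ho'b)) (inv_mem ho)
    have he1 : e = 1 := eq_one_of_div_mem_sub (Oc_le b) hNb (odd_card_Oc b) (hAC b hb he)
      hdb (hsq e he) hdo hrel
    rw [he1, one_mul]
    exact mul_mem ho ho'b
  obtain ⟨hW2, -⟩ := Cfsg.Agent.S0217.result (p := 2) A hcomm hA.2 (by norm_num; omega) Oc
    (fun a _ _ => Oc_le a)
    (fun a _ _ => Nat.two_dvd_ne_zero.2 (Nat.odd_iff.1 (odd_card_Oc a)))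
    (fun a ha _ b hb x hx =>
      (mem_normalizer_iff.1 (centralizer_le_normalizer_Oc a (hAC a ha hb)) x).1 hx)
    (fun a _ _ => Cfsg.Agent.S0205.result (odd_card_Oc a)) hbal
  set W : Subgroup G := ⨆ a : {a : G // a ∈ A ∧ a ≠ 1}, Oc (a : G) with hW
  have hWodd : Odd (Nat.card W) := Nat.odd_iff.2 (Nat.two_dvd_ne_zero.1 hW2)
  have hθW : ∀ a ∈ A, a ≠ 1 → Oc a ≤ W := fun a ha ha1 =>
    le_iSup (fun a : {a : G // a ∈ A ∧ a ≠ 1} => Oc (a : G)) ⟨a, ha, ha1⟩
  -- the criterion for a subgroup containing `W` and `N(A)` or normalising `W`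
  have key : ∀ M : Subgroup G, normalizer (A : Set G) ≤ M → W ≤ M → M = ⊤ := by
    intro M hNM hWM
    have hCa : ∀ a ∈ A, a ≠ 1 → centralizer ({a} : Set G) ≤ M := by
      intro a ha ha1 g hg
      obtain ⟨o, ho, n, hn, rfl⟩ := hloc a ha ha1 g hg
      exact mul_mem (hWM (hθW a ha ha1 ho)) (hNM hn)
    refine eq_top_of_centralizers T (hTN.trans hNM) (fun t ht ht2 => ?_) (fun R hR hinv => ?_) hcl
    · by_cases htA : t ∈ A
      · exact hCa t htA (CfsgLib.Involutions.ne_one ht2)
      · obtain ⟨hl, hnc⟩ := hout t ht htA ht2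
        intro g hg
        obtain ⟨o, ho, n, hn, rfl⟩ := hl g hg
        refine mul_mem ?_ (hNM hn)
        haveI : IsMulCommutative ↥(A ⊓ centralizer ({t} : Set G)) :=
          ⟨⟨fun x y => Subtype.ext (hcomm _ x.2.1 _ y.2.1)⟩⟩
        refine CfsgLib.CoprimeAction.le_of_centralizers hnc
          (inf_le_right.trans (centralizer_le_normalizer_Oc t)) ?_ (fun e he he1 => ?_) ho
        · obtain ⟨k, hk⟩ : ∃ k, Nat.card ↥(A ⊓ centralizer ({t} : Set G)) = 2 ^ k :=
            IsPGroup.iff_card.1 fun x => ⟨1, Subtype.ext (hA.2 _ x.2.1)⟩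
          rw [hk]
          exact Nat.Coprime.pow_left k (Nat.coprime_two_left.2 (odd_card_Oc t))
        · exact inf_le_right.trans (hCa e he.1 he1)
    · refine le_trans (fun g hg => ?_) hNM
      refine CfsgLib.CoprimeAction.mem_normalizer_of_conj_mem fun a ha => ?_
      by_cases ha1 : a = 1
      · subst ha1; simp
      · have ho : orderOf a = 2 := CfsgLib.Involutions.orderOf_eq_two_iff.2 ⟨hsq a ha, ha1⟩
        exact hsc.2 a ha g (hR ((mem_normalizer_iff.1 hg a).1 (hinv a (hsc.1 ha) ho)))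
  have hNW : normalizer (A : Set G) ≤ normalizer (W : Set G) := by
    intro n hn
    refine CfsgLib.CoprimeAction.mem_normalizer_of_conj_mem fun x hx => ?_
    have hle : W ≤ W.comap (MulAut.conj n).toMonoidHom := iSup_le fun a y hy => by
      have ha : n * (a : G) * n⁻¹ ∈ A := (mem_normalizer_iff.1 hn _).1 a.2.1
      have ha1 : n * (a : G) * n⁻¹ ≠ 1 := fun h => a.2.2 (conj_eq_one_iff.1 h)
      exact hθW _ ha ha1 (conj_mem_Oc n hy)
    exact hle hx
  haveI : W.Normal := normalizer_eq_top_iff.1 (key _ hNW le_normalizer)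
  have htop := key (oddCore G ⊔ normalizer (A : Set G)) le_sup_right
    ((CfsgLib.Cores.le_oddCore hWodd).trans le_sup_left)
  intro g
  have hg : g ∈ oddCore G ⊔ normalizer (A : Set G) := by rw [htop]; exact mem_top g
  obtain ⟨w, hw, n, hn, rfl⟩ := mem_sup_of_normal_left.1 hg
  exact ⟨w, hw, n, hn, rfl⟩

end CfsgLib.AEightThreeClasses
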