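import Mathlib
import Cfsg.Prelude.Def_Solvable
import Cfsg.Prelude.Def_TwoFusion
import Cfsg.Prelude.Def_CaseTheorems
import Cfsg.Agent.Lib.Cores.PCore
import Cfsg.Agent.Lib.Cores.Basic
import Cfsg.Agent.Lib.Involutions.Basic
import Cfsg.Agent.Lib.FusionSub.NormalCriterion
import Cfsg.Agent.Lib.FusionBasics.Group
import Cfsg.Agent.Lib.CoprimeAction.Glauberman
import Cfsg.Agent.Lib.Alperin.SubgroupSystem

/-!
General tools: odd cores of centralisers, the square root conjugation, strong control of fusion by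
the normaliser of a strongly closed abelian subgroup, and the criterion for a subgroup containing
every centraliser of an involution.
-/

set_option autoImplicit false

namespace CfsgLib.AEightThreeClasses

open Subgroup Cfsg

universe u

variable {G : Type u} [Group G]

/-- The odd core of the centraliser of `x`, as a subgroup of the whole group. -/
def Oc (x : G) : Subgroup G :=
  (oddCore ↥(centralizer ({x} : Set G))).map (centralizer ({x} : Set G)).subtype

theorem mem_cent {x g : G} : g ∈ centralizer ({x} : Set G) ↔ g * x = x * g :=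
  mem_centralizer_singleton_iff

theorem mem_cent_conj {x g : G} : g ∈ centralizer ({x} : Set G) ↔ g * x * g⁻¹ = x := by
  rw [mem_cent, mul_inv_eq_iff_eq_mul]

theorem Oc_le (x : G) : Oc x ≤ centralizer ({x} : Set G) := map_subtype_le _

theorem odd_card_Oc [Finite G] (x : G) : Odd (Nat.card (Oc x)) := by
  rw [Oc, card_map_of_injective (subtype_injective _)]
  exact CfsgLib.Cores.odd_card_oddCore

theorem centralizer_le_normalizer_Oc [Finite G] (x : G) :
    centralizer ({x} : Set G) ≤ normalizer (Oc x : Set G) := by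
  have hn : (oddCore ↥(centralizer ({x} : Set G))).Normal := inferInstance
  intro g hg
  refine mem_normalizer_iff.2 fun y => ⟨fun hy => ?_, fun hy => ?_⟩
  · obtain ⟨y', hy', rfl⟩ := hy
    exact ⟨⟨g, hg⟩ * y' * ⟨g, hg⟩⁻¹, hn.conj_mem y' hy' _, rfl⟩
  · obtain ⟨y', hy', he⟩ := hy
    refine ⟨⟨g, hg⟩⁻¹ * y' * ⟨g, hg⟩, by simpa using hn.conj_mem y' hy' ⟨g, hg⟩⁻¹, ?_⟩
    change g⁻¹ * (y' : G) * g = y
    have he' : (y' : G) = g * y * g⁻¹ := he
    rw [he']; group

theorem le_Oc [Finite G] {x : G} {K : Subgroup G} (h1 : K ≤ centralizer ({x} : Set G))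
    (h2 : centralizer ({x} : Set G) ≤ normalizer (K : Set G)) (h3 : Odd (Nat.card K)) :
    K ≤ Oc x := by
  haveI := normal_subgroupOf_of_le_normalizer h2
  have h4 : K.subgroupOf (centralizer ({x} : Set G)) ≤ oddCore ↥(centralizer ({x} : Set G)) :=
    CfsgLib.Cores.le_oddCore (by rwa [Nat.card_congr (subgroupOfEquivOfLe h1).toEquiv])
  intro k hk
  exact ⟨⟨k, h1 hk⟩, h4 hk, rfl⟩

theorem conj_mem_Oc [Finite G] {x o : G} (n : G) (ho : o ∈ Oc x) :
    n * o * n⁻¹ ∈ Oc (n * x * n⁻¹) := by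
  refine le_Oc (K := (Oc x).map (MulAut.conj n).toMonoidHom) ?_ ?_ ?_ ⟨o, ho, rfl⟩
  · rintro _ ⟨y, hy, rfl⟩
    have := mem_cent.1 (Oc_le x hy)
    rw [mem_cent]
    change n * y * n⁻¹ * (n * x * n⁻¹) = n * x * n⁻¹ * (n * y * n⁻¹)
    calc n * y * n⁻¹ * (n * x * n⁻¹) = n * (y * x) * n⁻¹ := by group
      _ = n * (x * y) * n⁻¹ := by rw [this]
      _ = _ := by group
  · intro g hg
    have hg' : n⁻¹ * g * n ∈ centralizer ({x} : Set G) := by
      rw [mem_cent] at hg ⊢
      calc n⁻¹ * g * n * x = n⁻¹ * (g * (n * x * n⁻¹)) * n := by group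
        _ = n⁻¹ * (n * x * n⁻¹ * g) * n := by rw [hg]
        _ = _ := by group
    have hN := mem_normalizer_iff.1 (centralizer_le_normalizer_Oc x hg')
    refine mem_normalizer_iff.2 fun y => ⟨?_, ?_⟩
    · rintro ⟨y', hy', rfl⟩
      exact ⟨n⁻¹ * g * n * y' * (n⁻¹ * g * n)⁻¹, (hN y').1 hy', by
        change n * (n⁻¹ * g * n * y' * (n⁻¹ * g * n)⁻¹) * n⁻¹ = g * (n * y' * n⁻¹) * g⁻¹
        group⟩
    · rintro ⟨y', hy', he⟩
      refine ⟨(n⁻¹ * g * n)⁻¹ * y' * (n⁻¹ * g * n), ?_, ?_⟩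
      · refine (hN _).2 ?_
        rw [show n⁻¹ * g * n * ((n⁻¹ * g * n)⁻¹ * y' * (n⁻¹ * g * n)) * (n⁻¹ * g * n)⁻¹ = y' by
          group]
        exact hy'
      · change n * ((n⁻¹ * g * n)⁻¹ * y' * (n⁻¹ * g * n)) * n⁻¹ = y
        have he' : n * y' * n⁻¹ = g * y * g⁻¹ := he
        rw [show n * ((n⁻¹ * g * n)⁻¹ * y' * (n⁻¹ * g * n)) * n⁻¹
          = g⁻¹ * (n * y' * n⁻¹) * g by group, he']
        group
  · rw [card_map_of_injective (MulAut.conj n).injective]
    exact odd_card_Oc x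

theorem odd_orderOf_of_mem {K : Subgroup G} (hK : Odd (Nat.card K)) {d : G} (hd : d ∈ K) :
    Odd (orderOf d) :=
  hK.of_dvd_nat (orderOf_dvd_natCard K hd)

/-- An element of order at most two congruent to an element of odd order modulo an odd normal
subgroup is trivial. -/
theorem eq_one_of_div_mem [Finite G] {L : Subgroup G} [L.Normal] (hL : Odd (Nat.card L)) {f d : G}
    (hf : f * f = 1) (hd : Odd (orderOf d)) (h : f * d⁻¹ ∈ L) : f = 1 := by
  have he : (QuotientGroup.mk' L) f = (QuotientGroup.mk' L) d := by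
    rw [← div_eq_one, ← map_div, div_eq_mul_inv]
    exact (QuotientGroup.eq_one_iff _).2 h
  have h2 : orderOf f ∣ 2 := orderOf_dvd_of_pow_eq_one (by rw [pow_two, hf])
  have h3 : orderOf ((QuotientGroup.mk' L) f) = 1 := by
    refine Nat.eq_one_of_dvd_coprimes (Nat.coprime_two_left.2 hd)
      ((orderOf_map_dvd _ _).trans h2) ?_
    rw [he]; exact orderOf_map_dvd _ _
  have hmem : f ∈ L := (QuotientGroup.eq_one_iff _).1 (orderOf_eq_one_iff.1 h3)
  rw [← orderOf_eq_one_iff]
  exact Nat.eq_one_of_dvd_coprimes (Nat.coprime_two_left.2 (odd_orderOf_of_mem hL hmem)) h2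
    (dvd_refl _)

/-- The same inside a subgroup `H` normalising `L`. -/
theorem eq_one_of_div_mem_sub [Finite G] {H L : Subgroup G} (hLH : L ≤ H)
    (hHL : H ≤ normalizer (L : Set G)) (hL : Odd (Nat.card L)) {f d : G} (hfH : f ∈ H)
    (hdH : d ∈ H) (hf : f * f = 1) (hd : Odd (orderOf d)) (h : f * d⁻¹ ∈ L) : f = 1 := by
  haveI := normal_subgroupOf_of_le_normalizer hHL
  have := eq_one_of_div_mem (L := L.subgroupOf H) (f := (⟨f, hfH⟩ : H)) (d := ⟨d, hdH⟩)
    (by rwa [Nat.card_congr (subgroupOfEquivOfLe hLH).toEquiv]) (Subtype.ext hf)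
    (by rwa [Subgroup.orderOf_mk]) h
  exact congrArg Subtype.val this

theorem eq_one_of_mem_odd {K : Subgroup G} (hK : Odd (Nat.card K)) {f : G} (hf : f * f = 1)
    (h : f ∈ K) : f = 1 := by
  rw [← orderOf_eq_one_iff]
  exact Nat.eq_one_of_dvd_coprimes (Nat.coprime_two_left.2 (odd_orderOf_of_mem hK h))
    (orderOf_dvd_of_pow_eq_one (by rw [pow_two, hf])) (dvd_refl _)

/-- An involution in the coset `L w` of an odd subgroup is an `L`-conjugate of `w`. -/
theorem exists_conj_of_mem_coset [Finite G] {L : Subgroup G} (hL : Odd (Nat.card L)) {d w : G}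
    (hd : d ∈ L) (hw : w * w = 1) (hdw : d * w * (d * w) = 1) :
    ∃ o ∈ L, o * w * o⁻¹ = d * w := by
  obtain ⟨k, hk⟩ := odd_orderOf_of_mem hL hd
  refine ⟨d ^ (k + 1), pow_mem hd _, ?_⟩
  have hwi : w⁻¹ = w := inv_eq_of_mul_eq_one_left hw
  have hinv : w * d⁻¹ * w⁻¹ = d := by
    have h1 : w * d * w = d⁻¹ := eq_inv_of_mul_eq_one_right (by simpa [mul_assoc] using hdw)
    calc w * d⁻¹ * w⁻¹ = w * (w * d * w) * w⁻¹ := by rw [h1]
      _ = (w * w) * d := by group
      _ = d := by rw [hw, one_mul]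
  calc d ^ (k + 1) * w * (d ^ (k + 1))⁻¹ = d ^ (k + 1) * (w * d⁻¹ * w⁻¹) ^ (k + 1) * w := by
        rw [conj_pow, inv_pow]; group
    _ = d ^ (2 * k + 1 + 1) * w := by rw [hinv, ← pow_add]; ring_nf
    _ = d * w := by rw [pow_succ, ← hk, pow_orderOf_eq_one, one_mul]

/-- Strong control of fusion in a fixed Sylow subgroup by the normaliser of a strongly closed
abelian subgroup. -/
theorem strong_control [Finite G] {p : ℕ} [Fact p.Prime] (S : Sylow p G) {A : Subgroup G}
    (hA : IsMulCommutative ↥A) (hsc : IsStronglyClosed A (S : Subgroup G)) (B : Set G)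
    (hB : B ⊆ (S : Subgroup G)) (g : G) (hg : ∀ b ∈ B, g * b * g⁻¹ ∈ (S : Subgroup G)) :
    ∃ n ∈ normalizer (A : Set G), ∀ b ∈ B, n * b * n⁻¹ = g * b * g⁻¹ := by
  have hc : ⁅A, A⁆ = ⊥ := by
    rw [Subgroup.commutator_eq_bot_iff_le_centralizer]
    intro a ha b hb
    exact congrArg Subtype.val (mul_comm' (⟨b, hb⟩ : A) ⟨a, ha⟩)
  have hcl : (Cfsg.groupFusionSystem (S : Subgroup G)).StronglyClosed A := by
    refine ⟨hsc.1, ?_⟩
    rintro R hR φ ⟨-, hS, g, hg⟩ x
    rw [hg x]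
    exact hsc.2 x (hR x.2) g (hg x ▸ hS x)
  obtain ⟨-, hN⟩ := CfsgLib.FusionSub.isNormal_of_abelian S.isPGroup'
    (CfsgLib.FusionBasics.group_isSaturated S) hcl hc
  have hP : Subgroup.closure B ≤ (S : Subgroup G) := (Subgroup.closure_le _).2 hB
  have hmem : Cfsg.conjHom (Subgroup.closure B) g ∈
      (Cfsg.groupFusionSystem (S : Subgroup G)).Hom (Subgroup.closure B) := by
    refine CfsgLib.FusionBasics.conjHom_mem_group g hP fun x hx => ?_
    have hle : Subgroup.closure B ≤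
        (S : Subgroup G).comap (MulAut.conj g).toMonoidHom :=
      (Subgroup.closure_le _).2 fun b hb => hg b hb
    exact hle hx
  obtain ⟨ψ, ⟨-, -, x, hx⟩, hψ, hψA⟩ := hN _ _ hmem
  refine ⟨x, ?_, fun a ha => ?_⟩
  · refine CfsgLib.CoprimeAction.mem_normalizer_of_conj_mem fun a ha => ?_
    rw [← hψA]
    exact ⟨⟨a, Subgroup.mem_sup_right ha⟩, ha, hx _⟩
  · have h1 := hψ ⟨a, Subgroup.subset_closure ha⟩
    rw [hx] at h1
    exact h1

/-- An element of the preimage of the odd core of the quotient by a central subgroup of order two. -/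
theorem central_two_preimage [Finite G] {Z : Subgroup G} [Z.Normal] {c : G} (hZ : Z = zpowers c)
    (hc2 : orderOf c = 2) (hc : c ∈ center G) {x : G}
    (hx : QuotientGroup.mk' Z x ∈ oddCore (G ⧸ Z)) :
    ∃ d ∈ oddCore G, x = d ∨ x = d * c := by
  set L := (oddCore (G ⧸ Z)).comap (QuotientGroup.mk' Z) with hL
  set N := Z.subgroupOf L with hN
  have hZL : Z ≤ L := fun z hz => by
    rw [hL, mem_comap, QuotientGroup.mk'_apply, (QuotientGroup.eq_one_iff z).2 hz]; exact one_mem _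
  have hcard : Nat.card L = Nat.card Z * Nat.card (oddCore (G ⧸ Z)) := by
    rw [hL, CfsgLib.Cores.card_comap_mk']
  have hZ2 : Nat.card Z = 2 := by rw [hZ, Nat.card_zpowers, hc2]
  have hNc : Nat.card N = 2 := by rw [hN, Nat.card_congr (subgroupOfEquivOfLe hZL).toEquiv, hZ2]
  have hNi : N.index = Nat.card (oddCore (G ⧸ Z)) := by
    have h := N.card_mul_index
    rw [hNc, hcard, hZ2] at h
    omega
  obtain ⟨D, hD⟩ := Subgroup.exists_right_complement'_of_coprime (N := N) (by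
    rw [hNc, hNi]; exact Nat.coprime_two_left.2 CfsgLib.Cores.odd_card_oddCore)
  have hDi : D.index = 2 := by rw [hD.index_eq_card, hNc]
  have hDn : D.Normal := normal_of_index_eq_two hDi
  have hDo : Odd (Nat.card D) := by
    rw [← hD.symm.index_eq_card, hNi]; exact CfsgLib.Cores.odd_card_oddCore
  have hDm : (D.map L.subtype).Normal := by
    refine ⟨?_⟩
    rintro _ ⟨⟨y, hyL⟩, hyD, rfl⟩ g
    have hgy : g * y * g⁻¹ ∈ L := (inferInstance : L.Normal).conj_mem y hyL g
    refine ⟨⟨g * y * g⁻¹, hgy⟩, ?_, rfl⟩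
    have ho : Odd (orderOf (⟨g * y * g⁻¹, hgy⟩ : L)) := by
      rw [Subgroup.orderOf_mk, CfsgLib.Involutions.orderOf_conj, ← Subgroup.orderOf_mk y hyL]
      exact odd_orderOf_of_mem hDo hyD
    refine (QuotientGroup.eq_one_iff (N := D) _).1 (orderOf_eq_one_iff.1 ?_)
    refine Nat.eq_one_of_dvd_coprimes (Nat.coprime_two_left.2 ho) ?_
      (orderOf_map_dvd (QuotientGroup.mk' D) _)
    exact hDi ▸ orderOf_dvd_natCard _
  have hDle : D.map L.subtype ≤ oddCore G :=
    CfsgLib.Cores.le_oddCore (by rwa [card_map_of_injective L.subtype_injective])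
  obtain ⟨⟨⟨n, hn⟩, ⟨d, hd⟩⟩, hnd⟩ := hD.2 (⟨x, hx⟩ : L)
  have hnd' : (n : G) * (d : G) = x := congrArg Subtype.val hnd
  have hnZ : (n : G) ∈ Z := hn
  rw [hZ] at hnZ
  refine ⟨(d : G), hDle ⟨d, hd, rfl⟩, ?_⟩
  obtain ⟨i, hi⟩ := mem_zpowers_iff.1 hnZ
  rcases Int.even_or_odd i with ⟨j, hj⟩ | ⟨j, hj⟩
  · left
    rw [← hnd', ← hi, hj, ← two_mul, zpow_mul, show c ^ (2 : ℤ) = 1 by
      rw [show (2 : ℤ) = ((2 : ℕ) : ℤ) from rfl, zpow_natCast, ← hc2, pow_orderOf_eq_one],
      one_zpow, one_mul]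
  · right
    have hci : c ^ i = c := by
      rw [hj, zpow_add, zpow_mul, show c ^ (2 : ℤ) = 1 by
        rw [show (2 : ℤ) = ((2 : ℕ) : ℤ) from rfl, zpow_natCast, ← hc2, pow_orderOf_eq_one],
        one_zpow, one_mul, zpow_one]
    rw [← hnd', ← hi, hci]
    exact (mem_center_iff.1 hc _).symm

/-- A subgroup with an involution, containing the centralisers of all its involutions, containing
the normaliser of every Sylow intersection with a normal subgroup, is the whole group if there are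
two classes of involutions. -/
theorem eq_top_of_centralizers [Finite G] (T : Sylow 2 G) {M : Subgroup G}
    (hTM : (T : Subgroup G) ≤ M)
    (hC : ∀ t ∈ (T : Subgroup G), orderOf t = 2 → centralizer ({t} : Set G) ≤ M)
    (hN : ∀ R : Subgroup G, R ≤ (T : Subgroup G) →
      (∀ t ∈ (T : Subgroup G), orderOf t = 2 → t ∈ R) → normalizer (R : Set G) ≤ M)
    (hcl : ∃ s t : G, orderOf s = 2 ∧ orderOf t = 2 ∧ ¬ IsConj s t) : M = ⊤ := by
  haveI : Fact (Nat.Prime 2) := ⟨Nat.prime_two⟩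
  -- the centraliser of every involution of `M` lies in `M`
  have hCM : ∀ t ∈ M, orderOf t = 2 → centralizer ({t} : Set G) ≤ M := by
    intro t htM ht
    have hp : IsPGroup 2 (zpowers (⟨t, htM⟩ : M)) :=
      IsPGroup.of_card (n := 1) (by rw [Nat.card_zpowers, Subgroup.orderOf_mk, ht, pow_one])
    obtain ⟨Q, hQ⟩ := hp.exists_le_sylow
    obtain ⟨⟨m, hmM⟩, hm⟩ := MulAction.exists_smul_eq M Q (T.subtype hTM)
    have htT : m * t * m⁻¹ ∈ (T : Subgroup G) := by
      have : (⟨m, hmM⟩ : M) * ⟨t, htM⟩ * (⟨m, hmM⟩ : M)⁻¹ ∈ (T.subtype hTM : Subgroup M) := by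
        rw [← hm]
        exact ⟨_, hQ (mem_zpowers _), rfl⟩
      exact this
    intro c hc
    have := hC _ htT (by rw [CfsgLib.Involutions.orderOf_conj, ht])
      (show m * c * m⁻¹ ∈ centralizer ({m * t * m⁻¹} : Set G) by
        rw [mem_cent] at hc ⊢
        calc m * c * m⁻¹ * (m * t * m⁻¹) = m * (c * t) * m⁻¹ := by group
          _ = m * (t * c) * m⁻¹ := by rw [hc]
          _ = _ := by group)
    have h := M.mul_mem (M.mul_mem (inv_mem hmM) this) hmM
    convert h using 1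
    group
  obtain ⟨s₀, t₀, hs₀, ht₀, hnc⟩ := hcl
  by_cases hout : ∃ s : G, orderOf s = 2 ∧ s ∉ M
  · obtain ⟨s, hs, hsM⟩ := hout
    have key : ∀ t ∈ M, ∀ r : G, orderOf t = 2 → orderOf r = 2 → r ∉ M → IsConj t r := by
      intro t htM r ht hr hrM
      refine CfsgLib.Involutions.isConj_of_odd ht hr ?_
      rw [← Nat.not_even_iff_odd]
      intro heven
      have hw := CfsgLib.Involutions.orderOf_half heven (orderOf_pos _).ne'
      have hwt := CfsgLib.Involutions.commute_half_left ht hr heven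
      have hwr := CfsgLib.Involutions.commute_half_right ht hr heven
      have hwM : (t * r) ^ (orderOf (t * r) / 2) ∈ M := hCM t htM ht (mem_cent.2 hwt.eq)
      exact hrM (hCM _ hwM hw (mem_cent.2 hwr.eq.symm))
    obtain ⟨t₁, ht₁⟩ : ∃ t ∈ (T : Subgroup G), orderOf t = 2 := by
      obtain ⟨x, hx⟩ := exists_prime_orderOf_dvd_card' (G := (T : Subgroup G)) 2
        (T.dvd_card_of_dvd_card (hs ▸ orderOf_dvd_natCard s))
      exact ⟨x, x.2, by rw [orderOf_coe, hx]⟩
    have all : ∀ r : G, orderOf r = 2 → IsConj t₁ r := by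
      intro r hr
      by_cases hrM : r ∈ M
      · exact (key t₁ (hTM ht₁.1) s ht₁.2 hs hsM).trans (key r hrM s hr hs hsM).symm
      · exact key t₁ (hTM ht₁.1) r ht₁.2 hr hrM
    exact (hnc ((all s₀ hs₀).symm.trans (all t₀ ht₀))).elim
  · push Not at hout
    set I := Subgroup.closure {t : G | orderOf t = 2} with hI
    haveI : I.Normal := by
      refine ⟨fun x hx g => ?_⟩
      have hle : I ≤ I.comap (MulAut.conj g).toMonoidHom := (closure_le _).2 fun t ht =>
        subset_closure (show orderOf (g * t * g⁻¹) = 2 by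
          rw [CfsgLib.Involutions.orderOf_conj]; exact ht)
      exact hle hx
    have hIM : I ≤ M := (closure_le _).2 hout
    set R := (T : Subgroup G) ⊓ I with hR
    obtain ⟨R', hR'⟩ := CfsgLib.Alperin.exists_sylow_inf_normal T I
    have hsup := Sylow.normalizer_sup_eq_top R'
    refine eq_top_iff.2 (hsup ▸ sup_le ?_ hIM)
    rw [hR', subgroupOf_map_subtype, inf_eq_left.2 inf_le_right]
    exact hN R inf_le_left fun t ht ht2 => ⟨ht, subset_closure ht2⟩

end CfsgLib.AEightThreeClasses
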